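import Mathlib.AlgebraicGeometry.Morphisms.SchemeTheoreticallyDominant
import Mathlib.AlgebraicGeometry.Morphisms.Smooth
import Groth.Prelude.Def_Neron

/-!
# A smooth closed subscheme of a Néron model is a Néron model of its generic fibre (S18484)
-/

set_option autoImplicit false
universe u
open CategoryTheory CategoryTheory.Limits AlgebraicGeometry

namespace Groth.Agent.Lib.Helper28.ClosedNeron

lemma appTop_injective_of_injective {R S : CommRingCat.{u}} (f : R ⟶ S)
    (hf : Function.Injective f.hom) : Function.Injective (Spec.map f).appTop := by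
  have h := Scheme.ΓSpecIso_naturality f
  have h2 : (Spec.map f).appTop = (Scheme.ΓSpecIso R).hom ≫ f ≫ (Scheme.ΓSpecIso S).inv := by
    rw [← Category.assoc, ← h, Category.assoc, Iso.hom_inv_id, Category.comp_id]
  rw [h2]
  have e1 := (ConcreteCategory.bijective_of_isIso (Scheme.ΓSpecIso R).hom).1
  have e2 := (ConcreteCategory.bijective_of_isIso (Scheme.ΓSpecIso S).inv).1
  intro a b hab
  apply e1
  apply hf
  apply e2
  exact hab

lemma genPt_dominant (R : Type u) [CommRing R] [IsDomain R] :
    IsSchemeTheoreticallyDominant (Neron.genPt R) := by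
  rw [isSchemeTheoreticallyDominant_iff]
  have hinj : Function.Injective (Neron.genPt R).appTop :=
    appTop_injective_of_injective _ (by
      simpa using IsFractionRing.injective R (FractionRing R))
  exact Scheme.IdealSheafData.ext_of_isAffine
    (by simpa [(Neron.genPt R).ker_apply ⟨⊤, isAffineOpen_top _⟩,
      ← RingHom.injective_iff_ker_eq_bot])

theorem main (R : Type u) [CommRing R] [IsDedekindDomain R]
    (X G : Over (Spec (CommRingCat.of R)))
    (hX : Neron.IsNeronModelOf R X ((Neron.genericFibre R).obj X) (Iso.refl _))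
    (i : G ⟶ X) [IsClosedImmersion i.left] [Smooth G.hom] :
    Neron.IsNeronModelOf R G ((Neron.genericFibre R).obj G) (Iso.refl _) := by
  obtain ⟨hsm, hsep, hlft, hqc, hmap⟩ := hX
  have hG : G.hom = i.left ≫ X.hom := (Over.w i).symm
  haveI : Mono i.left := inferInstance
  haveI : Mono i := Over.mono_of_mono_left i
  haveI := hsep
  haveI := hlft
  haveI := hqc
  refine ⟨inferInstance, ?_, ?_, ?_, ?_⟩
  · rw [hG]; infer_instance
  · rw [hG]; infer_instance
  · rw [hG]; infer_instance
  intro Y hY
  simp only [Iso.refl_hom, Category.comp_id]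
  have hbij := hmap Y hY
  simp only [Iso.refl_hom, Category.comp_id] at hbij
  constructor
  · intro g₁ g₂ h12
    have h3 : (Neron.genericFibre R).map (g₁ ≫ i) = (Neron.genericFibre R).map (g₂ ≫ i) := by
      rw [(Neron.genericFibre R).map_comp, (Neron.genericFibre R).map_comp]
      exact congrArg (· ≫ (Neron.genericFibre R).map i) h12
    exact (cancel_mono i).1 (hbij.1 h3)
  · intro γ
    obtain ⟨h, hh'⟩ := hbij.2 (γ ≫ (Neron.genericFibre R).map i)
    have hh : (Neron.genericFibre R).map h = γ ≫ (Neron.genericFibre R).map i := hh'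
    haveI : Smooth Y.hom := hY
    haveI : Flat Y.hom := inferInstance
    haveI := genPt_dominant R
    haveI : QuasiCompact (Neron.genPt R) := inferInstance
    haveI : IsSchemeTheoreticallyDominant (pullback.fst Y.hom (Neron.genPt R)) := inferInstance
    have hcomm : (γ.left ≫ pullback.fst G.hom (Neron.genPt R)) ≫ i.left =
        pullback.fst Y.hom (Neron.genPt R) ≫ h.left := by
      have e := congrArg (fun m => m.left ≫ pullback.fst X.hom (Neron.genPt R)) hh
      simp only [Over.comp_left, Over.pullback_map_left, Category.assoc, pullback.lift_fst] at e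
      rw [Category.assoc]
      exact e.symm
    let w : pullback Y.hom (Neron.genPt R) ⟶ pullback i.left h.left :=
      pullback.lift _ _ hcomm
    have hwz : w ≫ pullback.snd i.left h.left = pullback.fst Y.hom (Neron.genPt R) :=
      pullback.lift_snd _ _ _
    have hker : (pullback.snd i.left h.left).ker = ⊥ := by
      have h4 := Scheme.Hom.le_ker_comp w (pullback.snd i.left h.left)
      rw [hwz, (pullback.fst Y.hom (Neron.genPt R)).ker_eq_bot] at h4
      exact le_bot_iff.1 h4
    haveI : IsIso (pullback.snd i.left h.left) :=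
      IsClosedImmersion.isIso_iff_ker_eq_bot.mpr hker
    let g₀ : Y.left ⟶ G.left := inv (pullback.snd i.left h.left) ≫ pullback.fst i.left h.left
    have hg₀i : g₀ ≫ i.left = h.left := by
      simp only [g₀, Category.assoc, pullback.condition]
      rw [IsIso.inv_hom_id_assoc]
    have hg₀ : g₀ ≫ G.hom = Y.hom := by
      rw [hG, ← Category.assoc, hg₀i, Over.w h]
    refine ⟨Over.homMk g₀ hg₀, ?_⟩
    have hgi : Over.homMk g₀ hg₀ ≫ i = h := by
      ext
      exact hg₀i
    haveI : Mono ((Neron.genericFibre R).map i) := inferInstance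
    rw [← cancel_mono ((Neron.genericFibre R).map i), ← (Neron.genericFibre R).map_comp, hgi, hh]

end Groth.Agent.Lib.Helper28.ClosedNeron
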