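import Mathlib.AlgebraicGeometry.Morphisms.Etale
import Mathlib.AlgebraicGeometry.Morphisms.Smooth
import Mathlib.RingTheory.Algebraic.Integral
import Mathlib.RingTheory.Smooth.Flat
import Mathlib.RingTheory.Flat.TorsionFree
import Mathlib.RingTheory.RingHom.Etale
import Groth.Prelude.Def_Neron

/-!
# Base change of a Néron model along a finite étale extension of Dedekind domains (S11103)
-/

set_option autoImplicit false
universe u
open CategoryTheory CategoryTheory.Limits AlgebraicGeometry

namespace Groth.Agent.Lib.Helper28.EtaleBC

section transfer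

variable {C : Type*} [Category C] [HasPullbacks C]
variable {S S' T T' : C} {g : S' ⟶ S} {η : T ⟶ S} {η' : T' ⟶ S'} {gK : T' ⟶ T}

/-- adjoint morphism -/
noncomputable def adj {N : Over S} {Y' : Over S'} (g' : Y' ⟶ (Over.pullback g).obj N) :
    Over.mk (Y'.hom ≫ g) ⟶ N :=
  Over.homMk (g'.left ≫ pullback.fst N.hom g) (by
    have h := Over.w g'
    simp only [Over.pullback_obj_hom] at h
    simp only [Over.mk_hom, Category.assoc, pullback.condition]
    rw [← Category.assoc, h])

@[simp] lemma adj_left {N : Over S} {Y' : Over S'} (g' : Y' ⟶ (Over.pullback g).obj N) :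
    (adj g').left = g'.left ≫ pullback.fst N.hom g := rfl

noncomputable def phi (sq : IsPullback η' gK g η) (Y' : Over S') :
    pullback Y'.hom η' ⟶ pullback (Y'.hom ≫ g) η :=
  pullback.lift (pullback.fst _ _) (pullback.snd _ _ ≫ gK) (by
    rw [← Category.assoc, pullback.condition, Category.assoc, sq.w, Category.assoc])

lemma isIso_phi (sq : IsPullback η' gK g η) (Y' : Over S') : IsIso (phi sq Y') := by
  have P : IsPullback (pullback.fst Y'.hom η') (pullback.snd Y'.hom η' ≫ gK) (Y'.hom ≫ g) η :=
    (IsPullback.paste_horiz (IsPullback.of_hasPullback Y'.hom η').flip sq.flip).flip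
  have : phi sq Y' = P.isoPullback.hom := by
    apply pullback.hom_ext
    · simp only [phi, pullback.lift_fst, IsPullback.isoPullback_hom_fst]
    · simp only [phi, pullback.lift_snd, IsPullback.isoPullback_hom_snd]
  rw [this]
  infer_instance

noncomputable def psi (sq : IsPullback η' gK g η) (N : Over S) :
    pullback (pullback.snd N.hom g) η' ⟶ pullback N.hom η :=
  pullback.lift (pullback.fst _ _ ≫ pullback.fst _ _) (pullback.snd _ _ ≫ gK) (by
    rw [Category.assoc, pullback.condition, ← Category.assoc, pullback.condition, Category.assoc,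
      sq.w, Category.assoc])

lemma key (sq : IsPullback η' gK g η) {N : Over S} {Y' : Over S'}
    (g' : Y' ⟶ (Over.pullback g).obj N) :
    phi sq Y' ≫ ((Over.pullback η).map (adj g')).left =
      ((Over.pullback η').map g').left ≫ psi sq N := by
  apply pullback.hom_ext
  · simp only [Over.pullback_map_left, adj_left]
    dsimp only [Over.mk_hom, Over.mk_left, Over.pullback_obj_hom, Over.pullback_obj_left]
    simp only [phi, psi, Category.assoc, pullback.lift_fst,
      pullback.lift_fst_assoc, pullback.lift_snd, pullback.lift_snd_assoc]
  · simp only [Over.pullback_map_left, adj_left]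
    dsimp only [Over.mk_hom, Over.mk_left, Over.pullback_obj_hom, Over.pullback_obj_left]
    simp only [phi, psi, Category.assoc, pullback.lift_fst,
      pullback.lift_fst_assoc, pullback.lift_snd, pullback.lift_snd_assoc]

lemma psi_jointly_mono (sq : IsPullback η' gK g η) (N : Over S) {W : C}
    (u v : W ⟶ pullback (pullback.snd N.hom g) η') (h1 : u ≫ psi sq N = v ≫ psi sq N)
    (h2 : u ≫ pullback.snd _ _ = v ≫ pullback.snd _ _) : u = v := by
  apply pullback.hom_ext
  · apply pullback.hom_ext
    · have := congrArg (· ≫ pullback.fst N.hom η) h1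
      simp only [psi, Category.assoc, pullback.lift_fst] at this
      simpa only [Category.assoc] using this
    · rw [Category.assoc, Category.assoc, pullback.condition, ← Category.assoc, h2,
        Category.assoc]
  · exact h2

theorem transfer (sq : IsPullback η' gK g η) (N : Over S) (Y' : Over S')
    (hN : Function.Bijective
      (fun a : Over.mk (Y'.hom ≫ g) ⟶ N => (Over.pullback η).map a)) :
    Function.Bijective
      (fun g' : Y' ⟶ (Over.pullback g).obj N => (Over.pullback η').map g') := by
  haveI := isIso_phi sq Y'
  constructor
  · intro g₁ g₂ h12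
    have h12' : (Over.pullback η').map g₁ = (Over.pullback η').map g₂ := h12
    have e1 : (Over.pullback η).map (adj g₁) = (Over.pullback η).map (adj g₂) := by
      ext
      rw [← cancel_epi (phi sq Y'), key, key, h12']
    have e2 : adj g₁ = adj g₂ := hN.1 e1
    have e3 := congrArg (fun m => m.left) e2
    simp only [adj_left] at e3
    ext
    apply pullback.hom_ext
    · exact e3
    · have h1 := Over.w g₁
      have h2 := Over.w g₂
      simp only [Over.pullback_obj_hom] at h1 h2
      rw [h1, h2]
  · intro γ'
    have hγ' := Over.w γ'
    simp only [Over.pullback_obj_hom] at hγ'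
    have hover : (inv (phi sq Y') ≫ γ'.left ≫ psi sq N) ≫ pullback.snd N.hom η =
        pullback.snd (Y'.hom ≫ g) η := by
      simp only [Category.assoc]
      rw [IsIso.inv_comp_eq]
      simp only [psi, phi, pullback.lift_snd, pullback.lift_snd_assoc]
      rw [← Category.assoc, hγ']
    let γ : (Over.pullback η).obj (Over.mk (Y'.hom ≫ g)) ⟶ (Over.pullback η).obj N :=
      Over.homMk (inv (phi sq Y') ≫ γ'.left ≫ psi sq N) (by
        simp only [Over.pullback_obj_hom]
        exact hover)
    obtain ⟨a, ha'⟩ := hN.2 γ
    have ha : (Over.pullback η).map a = γ := ha'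
    have haw := Over.w a
    simp only [Over.mk_hom] at haw
    let g' : Y' ⟶ (Over.pullback g).obj N :=
      Over.homMk (pullback.lift a.left Y'.hom haw) (by
        simp only [Over.pullback_obj_hom, pullback.lift_snd])
    have hadj : adj g' = a := by
      ext
      simp only [adj_left, g', Over.homMk_left, pullback.lift_fst]
    refine ⟨g', ?_⟩
    show (Over.pullback η').map g' = γ'
    ext
    apply psi_jointly_mono sq N
    · rw [← key, hadj, ha]
      simp only [γ, Over.homMk_left, IsIso.hom_inv_id_assoc]
    · have h1 := Over.w ((Over.pullback η').map g')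
      simp only [Over.pullback_obj_hom] at h1
      rw [h1, hγ']

end transfer

section algebra

lemma faithfulSMul_of_flat (R R' : Type*) [CommRing R] [IsDomain R] [CommRing R'] [Nontrivial R']
    [Algebra R R'] [Module.Flat R R'] : FaithfulSMul R R' := by
  rw [faithfulSMul_iff_algebraMap_injective, injective_iff_map_eq_zero]
  intro r hr
  by_contra h0
  have hreg : IsSMulRegular R' r :=
    Module.Flat.isSMulRegular_of_nonZeroDivisors (mem_nonZeroDivisors_of_ne_zero h0)
  have h1 : r • (1 : R') = r • (0 : R') := by
    rw [Algebra.smul_def, mul_one, hr, smul_zero]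
  exact one_ne_zero (hreg h1)

lemma exists_sq (R R' : Type u) [CommRing R] [IsDomain R] [CommRing R'] [IsDomain R']
    [Algebra R R'] [FaithfulSMul R R'] [Algebra.IsAlgebraic R R'] :
    ∃ fK : FractionRing R →+* FractionRing R',
      IsPullback (Neron.genPt R') (Spec.map (CommRingCat.ofHom fK))
        (Spec.map (CommRingCat.ofHom (algebraMap R R'))) (Neron.genPt R) := by
  haveI : IsLocalization ((nonZeroDivisors R).map (algebraMap R R')) (FractionRing R') :=
    inferInstanceAs (IsLocalization (Algebra.algebraMapSubmonoid R' (nonZeroDivisors R))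
      (FractionRing R'))
  have hinj : Function.Injective ((algebraMap R' (FractionRing R')).comp (algebraMap R R')) :=
    (IsFractionRing.injective R' (FractionRing R')).comp
      (FaithfulSMul.algebraMap_injective R R')
  refine ⟨IsFractionRing.lift hinj, ?_⟩
  have H : (IsFractionRing.lift hinj : FractionRing R →+* FractionRing R').comp
      (algebraMap R (FractionRing R)) =
      (algebraMap R' (FractionRing R')).comp (algebraMap R R') := by
    ext x
    rw [RingHom.comp_apply, IsFractionRing.lift_algebraMap]
  have hpush := CommRingCat.isPushout_of_isLocalization (algebraMap R R')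
    (IsFractionRing.lift hinj : FractionRing R →+* FractionRing R') H (nonZeroDivisors R)
  exact isPullback_SpecMap_of_isPushout _ _ _ _ hpush

end algebra

theorem main (R R' : Type u) [CommRing R] [IsDedekindDomain R]
    [CommRing R'] [IsDedekindDomain R'] [Algebra R R'] [Module.Finite R R'] [Algebra.Etale R R']
    (N : Over (Spec (CommRingCat.of R)))
    (hN : Neron.IsNeronModelOf R N ((Neron.genericFibre R).obj N) (Iso.refl _)) :
    Neron.IsNeronModelOf R'
      ((Over.pullback (Spec.map (CommRingCat.ofHom (algebraMap R R')))).obj N)
      ((Neron.genericFibre R').obj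
        ((Over.pullback (Spec.map (CommRingCat.ofHom (algebraMap R R')))).obj N))
      (Iso.refl _) := by
  obtain ⟨hsm, hsep, hlft, hqc, hmap⟩ := hN
  haveI := hsm
  haveI := hsep
  haveI := hlft
  haveI := hqc
  refine ⟨?_, ?_, ?_, ?_, ?_⟩
  · simp only [Over.pullback_obj_hom]; infer_instance
  · simp only [Over.pullback_obj_hom]; infer_instance
  · simp only [Over.pullback_obj_hom]; infer_instance
  · simp only [Over.pullback_obj_hom]; infer_instance
  intro Y' hY'
  simp only [Iso.refl_hom, Category.comp_id]
  haveI : Module.Flat R R' := inferInstance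
  haveI : FaithfulSMul R R' := faithfulSMul_of_flat R R'
  haveI : Algebra.IsIntegral R R' := inferInstance
  haveI : Algebra.IsAlgebraic R R' := inferInstance
  obtain ⟨fK, sq⟩ := exists_sq R R'
  refine transfer sq N Y' ?_
  have het : (algebraMap R R').Etale := RingHom.etale_algebraMap.mpr inferInstance
  haveI : Etale (Spec.map (CommRingCat.ofHom (algebraMap R R'))) :=
    HasRingHomProperty.Spec_iff.mpr het
  haveI : Smooth Y'.hom := hY'
  have hsmY : Smooth (Y'.hom ≫ Spec.map (CommRingCat.ofHom (algebraMap R R'))) := inferInstance
  have := hmap (Over.mk (Y'.hom ≫ Spec.map (CommRingCat.ofHom (algebraMap R R')))) hsmY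
  simpa only [Iso.refl_hom, Category.comp_id] using this

end Groth.Agent.Lib.Helper28.EtaleBC
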