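import Groth.Agent.Lib.Helper28.Neron.ExtSmooth
import Groth.Agent.Lib.Helper28.Torsor.NeronTransfer

/-!
# Extensions of Néron (lft) models are Néron (lft) models (S15958)
-/

set_option autoImplicit false
set_option maxHeartbeats 1600000
universe u
open CategoryTheory CategoryTheory.Limits AlgebraicGeometry MonoidalCategory
  CartesianMonoidalCategory MonObj GrpObj

namespace Groth.Agent.Lib.Helper28.ExtNeron

open Groth.Agent.Lib.Helper28.ExtSmooth

variable {S K : Scheme.{u}} (j : K ⟶ S)

/-- the counit `Y_K ⟶ Y` of base change along `j`, as a morphism over `S` -/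
noncomputable abbrev cu (Y : Over S) : (Over.map j).obj ((Over.pullback j).obj Y) ⟶ Y :=
  (Over.mapPullbackAdj j).counit.app Y

lemma cu_nat {Y₁ Y : Over S} (f : Y₁ ⟶ Y) :
    (Over.map j).map ((Over.pullback j).map f) ≫ cu j Y = cu j Y₁ ≫ f :=
  (Over.mapPullbackAdj j).counit.naturality f

lemma nmp_iff (Y G : Over S) :
    Function.Bijective (fun g : Y ⟶ G => (Over.pullback j).map g) ↔
    Function.Bijective (fun g : Y ⟶ G => cu j Y ≫ g) := by
  have h : (fun g : Y ⟶ G => cu j Y ≫ g) =
      ((Over.mapPullbackAdj j).homEquiv _ _).symm ∘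
        (fun g : Y ⟶ G => (Over.pullback j).map g) := by
    funext g
    simp only [Function.comp_apply, Adjunction.homEquiv_counit]
    exact (cu_nat j g).symm
  rw [h]
  exact (Function.Bijective.of_comp_iff' (Equiv.bijective _) _).symm

lemma exists_desc {Y₁ Y A : Over S} (c : Y₁ ⟶ Y) [Flat c.left] [Surjective c.left]
    [LocallyOfFinitePresentation c.left] (w' : Y₁ ⟶ A)
    (h : pullback.fst c.left c.left ≫ w'.left = pullback.snd c.left c.left ≫ w'.left) :
    ∃ d : Y ⟶ A, c ≫ d = w' := by
  haveI := Groth.Agent.Lib.Helper28.NeronTransfer.effectiveEpi_of_fppf c.left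
  have hcond : ∀ {T : Scheme.{u}} (g₁ g₂ : T ⟶ Y₁.left),
      g₁ ≫ c.left = g₂ ≫ c.left → g₁ ≫ w'.left = g₂ ≫ w'.left := by
    intro T g₁ g₂ e
    calc g₁ ≫ w'.left = (pullback.lift g₁ g₂ e ≫ pullback.fst _ _) ≫ w'.left := by
          rw [pullback.lift_fst]
      _ = (pullback.lift g₁ g₂ e ≫ pullback.snd _ _) ≫ w'.left := by
          rw [Category.assoc, h, Category.assoc]
      _ = g₂ ≫ w'.left := by rw [pullback.lift_snd]
  let d₀ : Y.left ⟶ A.left := EffectiveEpi.desc c.left w'.left hcond
  have hd₀ : c.left ≫ d₀ = w'.left := EffectiveEpi.fac _ _ _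
  haveI : Epi c.left := inferInstance
  have hd₀S : d₀ ≫ A.hom = Y.hom := by
    rw [← cancel_epi c.left, ← Category.assoc, hd₀, Over.w w', Over.w c]
  exact ⟨Over.homMk d₀ hd₀S, by ext; exact hd₀⟩

lemma epi_eta {Y₁ Y : Over S} (c : Y₁ ⟶ Y) [Flat c.left] [Surjective c.left]
    [LocallyOfFinitePresentation c.left] :
    Epi ((Over.map j).map ((Over.pullback j).map c)) := by
  have sq : IsPullback ((Over.pullback j).map c).left (pullback.fst Y₁.hom j)
      (pullback.fst Y.hom j) c.left := by
    refine IsPullback.of_right ?_ ?_ (IsPullback.of_hasPullback Y.hom j).flip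
    · have e1 : ((Over.pullback j).map c).left ≫ pullback.snd Y.hom j =
          pullback.snd Y₁.hom j := by
        simp only [Over.pullback_map_left, pullback.lift_snd]
      have e2 : c.left ≫ Y.hom = Y₁.hom := Over.w c
      rw [e1, e2]
      exact (IsPullback.of_hasPullback Y₁.hom j).flip
    · simp only [Over.pullback_map_left, pullback.lift_fst]
  haveI h1 : Flat ((Over.pullback j).map c).left :=
    MorphismProperty.of_isPullback (P := @Flat) sq.flip inferInstance
  haveI h2 : Surjective ((Over.pullback j).map c).left :=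
    MorphismProperty.of_isPullback (P := @Surjective) sq.flip inferInstance
  haveI h3 : LocallyOfFinitePresentation ((Over.pullback j).map c).left :=
    MorphismProperty.of_isPullback (P := @LocallyOfFinitePresentation) sq.flip inferInstance
  haveI := Groth.Agent.Lib.Helper28.NeronTransfer.effectiveEpi_of_fppf
    ((Over.pullback j).map c).left
  haveI : Epi ((Over.pullback j).map c).left := inferInstance
  haveI : Epi ((Over.map j).map ((Over.pullback j).map c)).left := by
    rw [Over.map_map_left]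
    infer_instance
  exact Over.epi_of_epi_left _

section main

variable {G' G G'' : Over S} [GrpObj G'] [GrpObj G] [GrpObj G'']
  (i : G' ⟶ G) (q : G ⟶ G'') [IsMonHom i] [IsMonHom q]
  (hker : IsPullback i (toUnit G') q η[G''])
  (hG' : ∀ Y : Over S, Smooth Y.hom → Function.Bijective (fun g : Y ⟶ G' => cu j Y ≫ g))
  (hG'' : ∀ Y : Over S, Smooth Y.hom → Function.Bijective (fun g : Y ⟶ G'' => cu j Y ≫ g))

include hker hG' hG''

lemma inj (Y : Over S) (hY : Smooth Y.hom) (g₁ g₂ : Y ⟶ G)
    (h : cu j Y ≫ g₁ = cu j Y ≫ g₂) : g₁ = g₂ := by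
  have hq : g₁ ≫ q = g₂ ≫ q := (hG'' Y hY).1 (by
    show cu j Y ≫ g₁ ≫ q = cu j Y ≫ g₂ ≫ q
    rw [← Category.assoc, h, Category.assoc])
  have hd : (g₁ * g₂⁻¹) ≫ q = 1 := by
    rw [MonObj.mul_comp, GrpObj.inv_comp, hq, mul_inv_cancel]
  obtain ⟨d', hd'⟩ := ker_lift i q hker _ hd
  have h1 : cu j Y ≫ d' = cu j Y ≫ 1 := by
    apply ker_mono i q hker
    rw [Category.assoc, hd', MonObj.comp_mul, GrpObj.comp_inv, h, mul_inv_cancel,
      Category.assoc, MonObj.one_comp, MonObj.comp_one]
  have h2 : d' = 1 := (hG' Y hY).1 h1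
  rw [h2, MonObj.one_comp] at hd'
  exact mul_inv_eq_one.mp hd'.symm

variable [Smooth G'.hom] [Smooth G.hom] [Smooth G''.hom] [Flat q.left] [Surjective q.left]

lemma surj (Y : Over S) (hY : Smooth Y.hom)
    (u : (Over.map j).obj ((Over.pullback j).obj Y) ⟶ G) :
    ∃ g : Y ⟶ G, cu j Y ≫ g = u := by
  haveI := hY
  haveI : LocallyOfFinitePresentation q.left := by
    haveI : LocallyOfFinitePresentation (q.left ≫ G''.hom) := by
      rw [Over.w q]; infer_instance
    exact locallyOfFinitePresentation_of_comp q.left G''.hom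
  haveI : Smooth q.left := smooth_of_kernel i q hker
  obtain ⟨v, hv'⟩ := (hG'' Y hY).2 (u ≫ q)
  have hv : cu j Y ≫ v = u ≫ q := hv'
  -- the pulled back torsor
  let Y₁ : Over S := Over.mk (pullback.fst v.left q.left ≫ Y.hom)
  let c : Y₁ ⟶ Y := Over.homMk (pullback.fst v.left q.left) rfl
  let w : Y₁ ⟶ G := Over.homMk (pullback.snd v.left q.left) (by
    show pullback.snd v.left q.left ≫ G.hom = pullback.fst v.left q.left ≫ Y.hom
    rw [← Over.w q, ← Over.w v, ← Category.assoc, ← pullback.condition, Category.assoc])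
  have hcw : c ≫ v = w ≫ q := by
    ext
    exact pullback.condition
  haveI : Flat c.left := inferInstanceAs (Flat (pullback.fst v.left q.left))
  haveI : Surjective c.left := inferInstanceAs (Surjective (pullback.fst v.left q.left))
  haveI : LocallyOfFinitePresentation c.left :=
    inferInstanceAs (LocallyOfFinitePresentation (pullback.fst v.left q.left))
  haveI : Smooth c.left := inferInstanceAs (Smooth (pullback.fst v.left q.left))
  have hY₁ : Smooth Y₁.hom :=
    inferInstanceAs (Smooth (pullback.fst v.left q.left ≫ Y.hom))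
  have hnat : (Over.map j).map ((Over.pullback j).map c) ≫ cu j Y = cu j Y₁ ≫ c := cu_nat j c
  have hq2 : ((Over.map j).map ((Over.pullback j).map c) ≫ u) ≫ q = (cu j Y₁ ≫ w) ≫ q := by
    rw [Category.assoc, ← hv, ← Category.assoc, hnat, Category.assoc, Category.assoc, hcw]
  have hdq : (((Over.map j).map ((Over.pullback j).map c) ≫ u) * (cu j Y₁ ≫ w)⁻¹) ≫ q = 1 := by
    rw [MonObj.mul_comp, GrpObj.inv_comp, hq2, mul_inv_cancel]
  obtain ⟨δη', hδη'⟩ := ker_lift i q hker _ hdq
  obtain ⟨δ', hδ''⟩ := (hG' Y₁ hY₁).2 δη'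
  have hδ' : cu j Y₁ ≫ δ' = δη' := hδ''
  have hw' : cu j Y₁ ≫ ((δ' ≫ i) * w) = (Over.map j).map ((Over.pullback j).map c) ≫ u := by
    rw [MonObj.comp_mul, ← Category.assoc, hδ', hδη', inv_mul_cancel_right]
  -- the kernel pair
  let Y₂ : Over S := Over.mk (pullback.fst c.left c.left ≫ Y₁.hom)
  let p₁ : Y₂ ⟶ Y₁ := Over.homMk (pullback.fst c.left c.left) rfl
  let p₂ : Y₂ ⟶ Y₁ := Over.homMk (pullback.snd c.left c.left) (by
    show pullback.snd c.left c.left ≫ Y₁.hom = pullback.fst c.left c.left ≫ Y₁.hom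
    have e : Y₁.hom = c.left ≫ Y.hom := rfl
    rw [e, ← Category.assoc, ← pullback.condition, Category.assoc])
  have hp : p₁ ≫ c = p₂ ≫ c := by
    ext
    exact pullback.condition
  have hY₂ : Smooth Y₂.hom :=
    inferInstanceAs (Smooth (pullback.fst c.left c.left ≫ Y₁.hom))
  have hpw : p₁ ≫ ((δ' ≫ i) * w) = p₂ ≫ ((δ' ≫ i) * w) := by
    apply inj j i q hker hG' hG'' Y₂ hY₂
    have hn1 := cu_nat j p₁
    have hn2 := cu_nat j p₂
    have hpc : (Over.map j).map ((Over.pullback j).map p₁) ≫
        (Over.map j).map ((Over.pullback j).map c) =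
        (Over.map j).map ((Over.pullback j).map p₂) ≫
        (Over.map j).map ((Over.pullback j).map c) := by
      rw [← (Over.map j).map_comp, ← (Over.map j).map_comp, ← (Over.pullback j).map_comp,
        ← (Over.pullback j).map_comp, hp]
    rw [← Category.assoc, ← hn1, ← Category.assoc, ← hn2, Category.assoc, Category.assoc, hw',
      ← Category.assoc, ← Category.assoc, hpc]
  obtain ⟨g, hg⟩ := exists_desc c ((δ' ≫ i) * w) (congrArg (fun m => m.left) hpw)
  refine ⟨g, ?_⟩
  haveI : Epi ((Over.map j).map ((Over.pullback j).map c)) := epi_eta j c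
  rw [← cancel_epi ((Over.map j).map ((Over.pullback j).map c)), ← Category.assoc, hnat,
    Category.assoc, hg, hw']

theorem main' (Y : Over S) (hY : Smooth Y.hom) :
    Function.Bijective (fun g : Y ⟶ G => cu j Y ≫ g) :=
  ⟨fun g₁ g₂ h => inj j i q hker hG' hG'' Y hY g₁ g₂ h,
    fun u => surj j i q hker hG' hG'' Y hY u⟩

end main

theorem main {G' G G'' : Over S} [GrpObj G'] [GrpObj G] [GrpObj G'']
    [Smooth G'.hom] [Smooth G.hom] [Smooth G''.hom]
    (i : G' ⟶ G) (q : G ⟶ G'') [IsMonHom i] [IsMonHom q]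
    (hker : IsPullback i (toUnit G') q η[G'']) [Flat q.left] [Surjective q.left]
    (hG' : ∀ Y : Over S, Smooth Y.hom →
      Function.Bijective (fun g : Y ⟶ G' => (Over.pullback j).map g))
    (hG'' : ∀ Y : Over S, Smooth Y.hom →
      Function.Bijective (fun g : Y ⟶ G'' => (Over.pullback j).map g)) :
    ∀ Y : Over S, Smooth Y.hom →
      Function.Bijective (fun g : Y ⟶ G => (Over.pullback j).map g) := by
  intro Y hY
  rw [nmp_iff]
  exact main' j i q hker (fun Y hY => (nmp_iff j Y G').1 (hG' Y hY))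
    (fun Y hY => (nmp_iff j Y G'').1 (hG'' Y hY)) Y hY

end Groth.Agent.Lib.Helper28.ExtNeron
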