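import Groth.Agent.Lib.Helper28.Torsor.BalProdClosed
import Groth.Agent.Lib.Helper29.TorsorDesc
import Mathlib.AlgebraicGeometry.Morphisms.Smooth
import Mathlib.AlgebraicGeometry.Morphisms.LocalFlatDescent
import Mathlib.CategoryTheory.Limits.Constructions.Over.Connected

/-!
# The quotient map of a short exact sequence with smooth kernel is smooth
-/

set_option autoImplicit false
universe u
open CategoryTheory CategoryTheory.Limits AlgebraicGeometry MonoidalCategory
  CartesianMonoidalCategory MonObj GrpObj

namespace Groth.Agent.Lib.Helper28.ExtSmooth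

section lfp

variable {X Y S : Scheme.{u}} (f : X ⟶ Y) (g : Y ⟶ S)

set_option backward.isDefEq.respectTransparency false in
/-- If `f ≫ g` is locally of finite presentation and `g` is locally of finite type then `f` is
locally of finite presentation (copied from helper12's `FibreDominant`). -/
theorem locallyOfFinitePresentation_of_comp [LocallyOfFinitePresentation (f ≫ g)]
    [LocallyOfFiniteType g] : LocallyOfFinitePresentation f := by
  rw [HasRingHomProperty.iff_exists_appLE (P := @LocallyOfFinitePresentation)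
    (RingHom.finitePresentation_stableUnderComposition.stableUnderCompositionWithLocalizationAway
      RingHom.finitePresentation_holdsForLocalizationAway).left]
  intro x
  obtain ⟨_, ⟨T, hT, rfl⟩, hsT, -⟩ :=
    S.isBasis_affineOpens.exists_subset_of_mem_open (Set.mem_univ (g (f x))) isOpen_univ
  obtain ⟨_, ⟨V, hV, rfl⟩, hyV, hVT⟩ :=
    Y.isBasis_affineOpens.exists_subset_of_mem_open hsT (T.2.preimage g.continuous)
  obtain ⟨_, ⟨U, hU, rfl⟩, hxU, hUV⟩ :=
    X.isBasis_affineOpens.exists_subset_of_mem_open hyV (V.2.preimage f.continuous)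
  have hUT : U ≤ (f ≫ g) ⁻¹ᵁ T := fun z hz => hVT (hUV hz)
  refine ⟨⟨V, hV⟩, ⟨U, hU⟩, hxU, hUV, ?_⟩
  have hc : g.appLE T V hVT ≫ f.appLE V U hUV = (f ≫ g).appLE T U hUT :=
    Scheme.Hom.appLE_comp_appLE _ _ _ _ _ _ _
  have hfp : ((f ≫ g).appLE T U hUT).hom.FinitePresentation :=
    (f ≫ g).finitePresentation_appLE hT hU hUT
  have hft : (g.appLE T V hVT).hom.FiniteType := g.finiteType_appLE hT hV hVT
  rw [← hc, CommRingCat.hom_comp] at hfp
  exact RingHom.FinitePresentation.of_comp_finiteType (g.appLE T V hVT).hom hfp hft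

end lfp

section kernel

variable {C : Type*} [Category C] [CartesianMonoidalCategory C]
variable {G' G G'' : C} [GrpObj G'] [GrpObj G] [GrpObj G''] (i : G' ⟶ G) (q : G ⟶ G'')
  [IsMonHom i] [IsMonHom q] (hker : IsPullback i (toUnit G') q η[G''])

include hker

lemma ker_mono {T : C} (a b : T ⟶ G') (h : a ≫ i = b ≫ i) : a = b :=
  hker.hom_ext h (toUnit_unique _ _)

lemma ker_lift {T : C} (d : T ⟶ G) (hd : d ≫ q = 1) : ∃ d' : T ⟶ G', d' ≫ i = d :=
  ⟨hker.lift d (toUnit T) (by rw [hd, Hom.one_def]), hker.lift_fst _ _ _⟩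

lemma comp_i_q {T : C} (n : T ⟶ G') : (n ≫ i) ≫ q = 1 := by
  rw [Category.assoc, hker.w, ← Category.assoc, toUnit_unique (n ≫ toUnit G') (toUnit T),
    Hom.one_def]

lemma isPullback_shear : IsPullback ((fst G' G ≫ i) * snd G' G) (snd G' G) q q := by
  refine Groth.Agent.Lib.Helper28.BalProdClosed.isPullback_of_existsUnique ?_ ?_
  · rw [MonObj.mul_comp, comp_i_q i q hker, _root_.one_mul]
  · intro T a b hab
    have hd : (a * b⁻¹) ≫ q = 1 := by
      rw [MonObj.mul_comp, GrpObj.inv_comp, hab, mul_inv_cancel]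
    obtain ⟨n, hn⟩ := ker_lift i q hker _ hd
    refine ⟨lift n b, ⟨?_, lift_snd _ _⟩, ?_⟩
    · rw [MonObj.comp_mul, lift_fst_assoc, lift_snd, hn, inv_mul_cancel_right]
    · rintro l ⟨h1, h2⟩
      apply CartesianMonoidalCategory.hom_ext
      · rw [lift_fst]
        apply ker_mono i q hker
        rw [hn, Category.assoc]
        rw [MonObj.comp_mul, h2] at h1
        rw [← h1, mul_inv_cancel_right]
      · rw [lift_snd, h2]

end kernel

section smooth

variable {S : Scheme.{u}} {G' G G'' : Over S} [GrpObj G'] [GrpObj G] [GrpObj G'']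
  (i : G' ⟶ G) (q : G ⟶ G'') [IsMonHom i] [IsMonHom q]

theorem smooth_of_kernel (hker : IsPullback i (toUnit G') q η[G''])
    [Flat q.left] [Surjective q.left] [LocallyOfFinitePresentation q.left] [Smooth G'.hom] :
    Smooth q.left := by
  have sq := (isPullback_shear i q hker).map (Over.forget S)
  have hsnd : Smooth (snd G' G).left := by
    show Smooth (pullback.snd G'.hom G.hom)
    infer_instance
  have hR : Presieve.singleton q.left ∈ Scheme.fpqcPrecoverage G''.left :=
    Scheme.fppfPrecoverage_le_fpqcPrecoverage _ q.left.singleton_mem_fppfPrecoverage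
  refine Groth.Agent.Lib.Helper29.TorsorDesc.of_fpqc @Smooth q.left hR ?_
  intro U g hg
  cases hg
  have e : pullback.snd q.left q.left = sq.isoPullback.inv ≫ (snd G' G).left :=
    (sq.isoPullback_inv_snd).symm
  rw [e]
  exact (MorphismProperty.cancel_left_of_respectsIso @Smooth sq.isoPullback.inv _).mpr hsnd

end smooth

end Groth.Agent.Lib.Helper28.ExtSmooth
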