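import Mathlib
import Groth.Agent.Lib.Helper28.ValExt.Main

/-!
# Proper schemes over a Dedekind domain: generic points extend to sections
-/

set_option autoImplicit false
universe u
open CategoryTheory CategoryTheory.Limits AlgebraicGeometry TopologicalSpace

namespace Groth.Agent.Lib.Helper28.ProperDedekind

/-- a local Dedekind domain is a valuation ring -/
lemma valuationRing_of_local_dedekind (A : Type u) [CommRing A] [IsDomain A] [IsDedekindDomain A]
    [IsLocalRing A] : ValuationRing A := by
  have hfin : {I : Ideal A | I.IsPrime}.Finite := by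
    apply Set.Finite.subset (Set.toFinite {⊥, IsLocalRing.maximalIdeal A})
    intro I hI
    by_cases h : I = ⊥
    · left; exact h
    · right
      exact IsLocalRing.eq_maximalIdeal (Ideal.IsPrime.isMaximal hI h)
  haveI := IsPrincipalIdealRing.of_finite_primes hfin
  infer_instance

/-- Mathlib's algebra structure on the function field of an affine integral scheme -/
noncomputable abbrev algFF (R : CommRingCat.{u}) [IsDomain R] :
    Algebra R (Spec R).functionField := inferInstance

variable (R : Type u) [CommRing R] [IsDedekindDomain R]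

set_option backward.isDefEq.respectTransparency.types false in
lemma valuationRing_stalk (x : Spec (CommRingCat.of R)) :
    ValuationRing ((Spec (CommRingCat.of R)).presheaf.stalk x) := by
  letI alg : Algebra R ((Spec (CommRingCat.of R)).presheaf.stalk x) :=
    (AlgebraicGeometry.StructureSheaf.toStalk (CommRingCat.of R) x).hom.toAlgebra
  have hloc : IsLocalization.AtPrime ((Spec (CommRingCat.of R)).presheaf.stalk x)
      (PrimeSpectrum.asIdeal x) :=
    AlgebraicGeometry.StructureSheaf.IsLocalization.to_stalk (R := CommRingCat.of R) x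
  have : IsDedekindDomain ((Spec (CommRingCat.of R)).presheaf.stalk x) :=
    IsLocalization.isDedekindDomain R
      (M := (PrimeSpectrum.asIdeal x).primeCompl)
      (Ideal.primeCompl_le_nonZeroDivisors _)
      ((Spec (CommRingCat.of R)).presheaf.stalk x)
  exact valuationRing_of_local_dedekind _

/-- the starting open: a generic point spreads out -/
lemma exists_open_of_genPt {Y : Scheme.{u}} (q : Y ⟶ Spec (CommRingCat.of R))
    [LocallyOfFiniteType q]
    (s : Spec (CommRingCat.of (FractionRing R)) ⟶ Y)
    (hs : s ≫ q = Spec.map (CommRingCat.ofHom (algebraMap R (FractionRing R)))) :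
    ∃ (U : (Spec (CommRingCat.of R)).Opens) (f : (U : Scheme.{u}) ⟶ Y),
      (U : Set (Spec (CommRingCat.of R))).Nonempty ∧ f ≫ q = U.ι := by
  letI algF : Algebra R (Spec (CommRingCat.of R)).functionField := algFF (CommRingCat.of R)
  have fracF : IsFractionRing R (Spec (CommRingCat.of R)).functionField :=
    functionField_isFractionRing_of_affine (CommRingCat.of R)
  let e : FractionRing R ≃ₐ[R] (Spec (CommRingCat.of R)).functionField :=
    IsLocalization.algEquiv (nonZeroDivisors R) (FractionRing R)
      (Spec (CommRingCat.of R)).functionField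
  let g : CommRingCat.of (FractionRing R) ⟶
      (Spec (CommRingCat.of R)).presheaf.stalk (genericPoint (Spec (CommRingCat.of R))) :=
    CommRingCat.ofHom (e : FractionRing R →+* (Spec (CommRingCat.of R)).functionField)
  have hg : CommRingCat.ofHom (algebraMap R (FractionRing R)) ≫ g =
      AlgebraicGeometry.StructureSheaf.toStalk (CommRingCat.of R)
        (genericPoint (Spec (CommRingCat.of R))) := by
    ext r
    have := e.commutes r
    exact this
  have h : (Spec.map g ≫ s) ≫ q =
      (Spec (CommRingCat.of R)).fromSpecStalk (genericPoint (Spec (CommRingCat.of R))) ≫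
        𝟙 (Spec (CommRingCat.of R)) := by
    rw [Category.assoc, hs, ← Spec.map_comp, hg, Category.comp_id]
    exact (Spec.fromSpecStalk_eq' (CommRingCat.of R) _).symm
  obtain ⟨U, hxU, f, -, hf⟩ := spread_out_of_isGermInjective'
    (𝟙 (Spec (CommRingCat.of R))) q (Spec.map g ≫ s) h
  exact ⟨U, f, ⟨genericPoint (Spec (CommRingCat.of R)), hxU⟩, by rw [hf, Category.comp_id]⟩

/-- a generic point of a proper scheme over a Dedekind domain extends to a section -/
theorem exists_section {Y : Scheme.{u}} (q : Y ⟶ Spec (CommRingCat.of R)) [IsProper q]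
    (s : Spec (CommRingCat.of (FractionRing R)) ⟶ Y)
    (hs : s ≫ q = Spec.map (CommRingCat.ofHom (algebraMap R (FractionRing R)))) :
    ∃ t : Spec (CommRingCat.of R) ⟶ Y, t ≫ q = 𝟙 _ := by
  let S := Spec (CommRingCat.of R)
  obtain ⟨U₀, f₀, hU₀, hf₀⟩ := exists_open_of_genPt R q s hs
  let Pset : Set S.Opens := {U | U₀ ≤ U ∧ ∃ f : (U : Scheme.{u}) ⟶ Y, f ≫ q = U.ι}
  have hne : Pset.Nonempty := ⟨U₀, le_rfl, f₀, hf₀⟩
  have hwf : WellFounded ((· > ·) : S.Opens → S.Opens → Prop) :=
    (inferInstance : NoetherianSpace S).wf
  obtain ⟨M, ⟨hM0, f, hf⟩, hmax⟩ := hwf.has_min Pset hne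
  have hMne : (M : Set S).Nonempty := hU₀.mono hM0
  have htop : M = ⊤ := by
    by_contra hMtop
    obtain ⟨x, hx⟩ : ∃ x : S, x ∉ M := by
      by_contra hall
      push Not at hall
      exact hMtop (eq_top_iff.mpr fun x _ => hall x)
    have hdense : x ∈ closure (M : Set S) := by
      have : Dense (M : Set S) := M.isOpen.dense hMne
      exact this x
    obtain ⟨U', hUU', hxU', f', hf', -⟩ := Groth.Agent.Lib.Helper28.ValExt.main (𝟙 S) q x M f
      (by rw [hf, Category.comp_id]) hdense (Or.inr inferInstance) inferInstance
      (valuationRing_stalk R x)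
    have hU'mem : U' ∈ Pset := ⟨hM0.trans hUU', f', by rw [hf', Category.comp_id]⟩
    have hlt : U' > M := lt_of_le_of_ne hUU' (fun h => hx (h ▸ hxU'))
    exact hmax U' hU'mem hlt
  subst htop
  refine ⟨S.topIso.inv ≫ f, ?_⟩
  rw [Category.assoc, hf]
  exact Scheme.toIso_inv_ι S

end Groth.Agent.Lib.Helper28.ProperDedekind
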