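import Groth.Agent.Lib.Helper28.Torsor.NeronTransfer
import Groth.Agent.Lib.Helper29.TorsorDesc
import Groth.Agent.S0081
import Groth.Prelude.Def_Neron

/-!
# A torsor under a Néron model is a Néron model of its generic fibre (S18486)
-/

set_option autoImplicit false
set_option maxHeartbeats 1600000
universe u
open CategoryTheory CategoryTheory.Limits AlgebraicGeometry MonoidalCategory CartesianMonoidalCategory
  MorphismProperty MonObj

namespace Groth.Agent.Lib.Helper28.TorsorNeron

open Groth.Agent.Lib.Helper29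

theorem main (R : Type u) [CommRing R] [IsDedekindDomain R]
    (X : Over (Spec (CommRingCat.of R))) [GrpObj X]
    (hX : Neron.IsNeronModelOf R X ((Neron.genericFibre R).obj X) (Iso.refl _))
    (P : NonAbH1.TorsorSch X Scheme.fppfPrecoverage) :
    Neron.IsNeronModelOf R P.X ((Neron.genericFibre R).obj P.X) (Iso.refl _) := by
  obtain ⟨hsm, hsep, hlft, hqc, hmap⟩ := hX
  have hT : NonAbH1.IsTorsorFor Scheme.fpqcPrecoverage P.act := by
    obtain ⟨hps, R', hR', hsec⟩ := P.isTorsor
    exact ⟨hps, R', Scheme.fppfPrecoverage_le_fpqcPrecoverage _ hR', hsec⟩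
  have h1 : Smooth P.X.hom := TorsorDesc.hom_of_isTorsorFor_fpqc @Smooth P.act hT hsm
  have h2 : IsSeparated P.X.hom := by
    haveI := Groth.Agent.S0081.result.{u}
    exact TorsorDesc.hom_of_isTorsorFor_fpqc @IsSeparated P.act hT hsep
  have h3 : LocallyOfFiniteType P.X.hom :=
    TorsorDesc.hom_of_isTorsorFor_fpqc @LocallyOfFiniteType P.act hT hlft
  have h4 : QuasiCompact P.X.hom :=
    TorsorDesc.hom_of_isTorsorFor_fpqc @QuasiCompact P.act hT hqc
  have h5 : Surjective P.X.hom :=
    TorsorDesc.hom_of_isTorsorFor_fpqc @Surjective P.act hT (TorsorDesc.surjective_of_grp X)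
  refine ⟨h1, h2, h3, h4, ?_⟩
  have key := (Groth.Agent.Lib.Helper28.NeronTransfer.transfer P.act (Neron.genPt R) hT.1).mp
    (fun Z hZ => by
      have := hmap Z hZ
      simpa only [Iso.refl_hom, Category.comp_id] using this)
  intro Y hY
  have := key Y hY
  simpa only [Iso.refl_hom, Category.comp_id] using this

end Groth.Agent.Lib.Helper28.TorsorNeron
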